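import Cfsg.Agent.Spor.LyMcN1.D0

set_option autoImplicit false
set_option maxRecDepth 100000000
set_option Elab.async false

namespace Cfsg.Agent.Spor.LyMcN1

theorem ok0 : Net.okb 1 n0 = true := by decide +kernel

theorem ok1 : Net.okb 1 n1 = true := by decide +kernel

theorem ok2 : Net.okb 1 n2 = true := by decide +kernel

theorem ok3 : Net.okb 1 n3 = true := by decide +kernel

theorem rel0 : T.rel 1 [3, 2, 2, 7, 2, 3, 6, 6, 7, 2, 7, 3, 2, 2, 7, 2, 3, 6, 6, 7, 2, 7, 3, 2, 2, 7, 2, 3, 6, 6, 7, 2, 7, 3, 2, 2, 7, 2, 3, 6, 6, 7, 2, 7] 0 1 = true := by decide +kernel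

theorem rel1 : T.rel 1 [7, 7, 2, 2, 7, 7, 3, 6, 3, 2, 2, 7, 6, 3, 6, 6, 7, 2, 3, 2, 2, 7, 2, 3, 6, 6, 7, 2, 7] 0 1 = true := by decide +kernel

theorem rel2 : T.rel 1 [7, 7, 3, 2, 2, 7, 2, 3, 6, 6, 7, 2, 7, 7, 7, 3, 2, 2, 7, 2, 3, 6, 6, 7, 2, 7, 3, 2, 2, 7, 2, 3, 6, 6, 7, 2, 7, 7, 7, 3, 6, 3, 2, 2, 7, 6, 3, 6, 6, 7] 0 1 = true := by decide +kernel

theorem rel3 : T.rel 1 [2, 3, 2, 2, 7, 2, 3, 6, 6, 7, 2, 7, 6, 3, 2, 2, 7, 2, 3, 6, 6, 7, 2, 7, 6, 6, 3, 6, 3, 2, 2, 7, 6, 3, 6, 6, 7, 3, 6, 3, 2, 2, 7, 6, 3, 6, 6, 7] 0 1 = true := by decide +kernel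

theorem rel4 : T.rel 1 [7, 7, 2, 7, 7, 2, 7, 7, 6, 7, 7, 6] 0 1 = true := by decide +kernel

theorem rel5 : T.rel 1 [7, 7, 7, 7] 0 1 = true := by decide +kernel

theorem rel6 : T.rel 1 [2, 2, 2, 2, 2] 0 1 = true := by decide +kernel

theorem rel7 : T.rel 1 [3, 2, 3, 3, 2, 2, 7, 6, 3, 6, 3, 2, 7, 3, 6, 3, 2, 2, 7, 6, 3, 6, 6, 7] 0 1 = true := by decide +kernel

theorem rel8 : T.rel 1 [3, 2, 3, 2, 2, 7, 2, 2, 3, 2, 7, 2, 2, 3, 3, 2] 0 1 = true := by decide +kernel

theorem rel9 : T.rel 1 [3, 2, 7, 6, 3, 2, 7, 6, 3, 2, 7, 6] 0 1 = true := by decide +kernel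

theorem rel10 : T.rel 1 [1, 1, 8, 8] 0 1 = true := by decide +kernel

theorem rel11 : T.rel 1 [1, 7, 1, 7] 0 1 = true := by decide +kernel

theorem rel12 : T.rel 1 [1, 1, 1, 1, 7, 7] 0 1 = true := by decide +kernel

theorem rel13 : T.rel 1 [1, 3, 1, 3] 0 1 = true := by decide +kernel

theorem rel14 : T.rel 1 [3, 4, 7, 7, 8, 3] 0 1 = true := by decide +kernel

theorem rel15 : T.rel 1 [1, 4, 1, 8, 5, 8] 0 1 = true := by decide +kernel

theorem rel16 : T.rel 1 [1, 2, 4, 6, 8, 5, 2] 0 1 = true := by decide +kernel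

theorem rel17 : T.rel 1 [1, 2, 2, 5, 4, 6, 8, 2] 0 1 = true := by decide +kernel

theorem rel18 : T.rel 1 [5, 8, 7, 7, 8, 5] 0 1 = true := by decide +kernel

theorem rel19 : T.rel 1 [2, 4, 1, 2, 5, 6, 6, 8] 0 1 = true := by decide +kernel

theorem rel20 : T.rel 1 [8, 3, 4, 4, 3, 8] 0 1 = true := by decide +kernel

theorem rel21 : T.rel 1 [1, 3, 2, 8, 2, 1, 8, 6, 5, 8, 7] 0 1 = true := by decide +kernel

theorem rel22 : T.rel 1 [1, 6, 4, 5, 6, 4, 5, 6, 8] 0 1 = true := by decide +kernel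

theorem rel23 : T.rel 1 [1, 3, 4, 2, 1, 4, 2, 2, 1, 4, 6, 7] 0 1 = true := by decide +kernel

theorem rel24 : T.rel 1 [1, 3, 6, 8, 6, 8, 6, 5, 2, 7] 0 1 = true := by decide +kernel

theorem rel25 : T.rel 1 [1, 3, 2, 1, 1, 4, 2, 4, 6, 1, 2, 7] 0 1 = true := by decide +kernel

theorem rel26 : T.rel 1 [1, 6, 7, 2, 2, 3, 6, 6, 3, 6, 7, 2] 0 1 = true := by decide +kernel

theorem rel27 : T.rel 1 [4, 6, 7, 2, 7, 6, 1, 6, 3, 2, 4, 6] 0 1 = true := by decide +kernel

theorem rel28 : T.rel 1 [4, 1, 3, 2, 8, 2, 7, 4, 2, 1, 2, 7, 8, 7, 2, 2, 7, 2, 2] 0 1 = true := by decide +kernel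

theorem rel29 : T.rel 1 [4, 2, 3, 1] 0 1 = true := by decide +kernel

theorem hcov : T.treeCov (ones 1) L 1 = true := by decide +kernel

theorem hg : lall (fun z => band (memL L z) (band (sub (ones 1) (T.let z).cl) (T.closed (ones 1) z))) gs = true := by decide +kernel

theorem hivk : ivOk (2 * 0) EX IV = true := by decide +kernel

theorem hrt : RT.ok (2 * 0) EX RL = true := by decide +kernel

theorem hdefs : defs F 55 = true := by decide +kernel

noncomputable def st0_l : List Nat := [nat_lit 0x100000100002403, nat_lit 0x140000100003403, nat_lit 0x160000100003403, nat_lit 0x180000a8001c403, nat_lit 0x1a0000100001c03, nat_lit 0x1c0000100000003, nat_lit 0x200000200003c03, nat_lit 0x24000108001ec03, nat_lit 0x7c0001200008c03, nat_lit 0x2a0000300000003, nat_lit 0x2a0000300002c03, nat_lit 0x80000000020003, nat_lit 0x160000ac001060000a000078001fc06, nat_lit 0x280001180021803, nat_lit 0x2e0000300003403, nat_lit 0x380000600000003, nat_lit 0x1d0001c80002c000020000280007c06, nat_lit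 0x3c000070000140005200089000160000cc07, nat_lit 0x3e0000700000003, nat_lit 0x400000800005c03, nat_lit 0x1000002000002000038000bc05, nat_lit 0x10000020000020000000023005, nat_lit 0x2a0001780025803, nat_lit 0x1a0002140013600097000458001c80002c000190003a8001c80a, nat_lit 0x4e0000d002, nat_lit 0x100000de0009e0004a00025c05, nat_lit 0x3c80023000130000a10001700001806, nat_lit 0x80005100007003, nat_lit 0xe000510001e403, nat_lit 0x9f0005280004403, nat_lit 0x840005280004c03, nat_lit 0x5200002002, nat_lit 0x530000f402, nat_lit 0x8d000530001f003, nat_lit 0x93000530001e803, nat_lit 0x5400025002, nat_lit 0x5400005802, nat_lit 0x5500020402, nat_lit 0x550000a802, nat_lit 0x5500026c02, nat_lit 0x5800026002, nat_lit 0x580000e002, nat_lit 0x5900024c02, nat_lit 0x4c000250005f80010004, nat_lit 0x6200009802, nat_lit 0xf0000940017e000bc0005d8001d806, nat_lit 0x6400023802, nat_lit 0x6400007802, nat_lit 0x30000198002400015c000010005600004c07, nat_lit 0x670000c002, nat_lit 0x1b00002800158000190003a8001c006,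 nat_lit 0x194000cd000020002b000026000d10005d00004808, nat_lit 0xb70006a0000e803, nat_lit 0xcb0006a80006403, nat_lit 0x400006b80030003, nat_lit 0xc60006b80003003, nat_lit 0x1b4000b40006b8001d004, nat_lit 0x710006b00004003, nat_lit 0x1b0000cd0006e80000c04, nat_lit 0x5e80036c001be000e30000a80038406, nat_lit 0x200006e80001c03, nat_lit 0x388001bc000240006e80000005, nat_lit 0x6000037c001c6000e90006100039c06, nat_lit 0x3a8000e0000e10007480000405, nat_lit 0x15c000e80007000034804, nat_lit 0x770002b8001d0000e20000c0003a406, nat_lit 0xe8000720002e403, nat_lit 0x760000cc02, nat_lit 0x7600001802, nat_lit 0x120000ef0007880000404, nat_lit 0xf0000770002b803, nat_lit 0x7c0003d002, nat_lit 0x1ec000fd000000003ec001e6000fa000790003e8001f4000f20007d8003ec0c, nat_lit 0x8003fc02, nat_lit 0x520002200012c03, nat_lit 0x540002200013c03, nat_lit 0x560002200013c03, nat_lit 0x580002a80041403, nat_lit 0x5a0002200012403, nat_lit 0x5c0002200013403, nat_lit 0x620002300014403, nat_lit 0x660003180043c03,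 nat_lit 0x1100003300019403, nat_lit 0x6a0002400013403, nat_lit 0x6a0002400010803, nat_lit 0x1ac0022e001000008b0001a805, nat_lit 0xd4001180008c00042804, nat_lit 0x1140008d80016803, nat_lit 0x8d0001a802, nat_lit 0x520008e00013003, nat_lit 0x10d0008e80015c03, nat_lit 0x9000014802, nat_lit 0x500009000040c03, nat_lit 0x9100017002, nat_lit 0x9300014002, nat_lit 0x9300043802, nat_lit 0x9300044c02, nat_lit 0x8480013800092001180002400013c06, nat_lit 0x9800016002, nat_lit 0x9800042402, nat_lit 0x8f800464000900004f0009a80041006, nat_lit 0x1040009b00042c03, nat_lit 0x9b00016802, nat_lit 0x9b00047c02, nat_lit 0x9c0004cc02, nat_lit 0x9c00013802, nat_lit 0x9c00041002, nat_lit 0x9c00041802, nat_lit 0x5e00023000114000ae001440008c80051407, nat_lit 0xa300017802, nat_lit 0x60000230004940027c001180009f8004a007, nat_lit 0xa10004fc000ae001440008c0004fc002740013d000a08001080a, nat_lit 0x143000a680040403, nat_lit 0x13e000a780010c03, nat_lit 0xa700051402, nat_lit 0x56000a880012c03, nat_lit 0xa800011002,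 nat_lit 0xaa00052802, nat_lit 0xaa00054802, nat_lit 0x12c000aa00052403, nat_lit 0xae0004b002, nat_lit 0x3400057c00094001570009500056406, nat_lit 0xb00001a002, nat_lit 0x3200057c00256001560009500057806, nat_lit 0x60000b20004b803, nat_lit 0x2cc00163000b200019004, nat_lit 0xc200167000b480011804, nat_lit 0x5a80008c0016a000b400056c05, nat_lit 0x218005b402, nat_lit 0x1b000202001010008080040405, nat_lit 0x171000800001b403, nat_lit 0x16f000368005cc03, nat_lit 0x5c4000da001740008080040405, nat_lit 0x177000800005c003, nat_lit 0x171000b78005d4002f200173000bb8005b80020000175000360004040b, nat_lit 0x368005ec02]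
theorem st0 : band (steps F IV RT base st0_l 55) (Nat.beq (Nat.add 55 (llen st0_l)) 191) = true := by decide +kernel

theorem ep0a : T.treePath [] (Nat.shiftLeft 1 0) 1 = true := by decide +kernel

theorem ep0b : T.treePath [] (Nat.shiftLeft 1 0) 1 = true := by decide +kernel

theorem ep0c : band (lall (fun z => Nat.ble z 255) ([] ++ 1 :: [])) (concl F IV 191 0x40001 (encA ([] ++ 1 :: []) 0)) = true := by decide +kernel

theorem ep0d : band (Rule.ok (2 * 0) EX [] ⟨lapp [] [], [], 0, false⟩) (band (lall (memL L) []) (lall (memL L) [])) = true := by decide +kernel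

theorem cov1 : T.cover 1 [(Nat.shiftLeft 1 0)] = true := by decide +kernel

theorem tl1 : Nat.beq (T.let 1).tt 0 = true := by decide +kernel

theorem ep1a : T.treePath [] (Nat.shiftLeft 1 0) 1 = true := by decide +kernel

theorem ep1b : T.treePath [] (Nat.shiftLeft 1 0) 1 = true := by decide +kernel

theorem ep1c : band (lall (fun z => Nat.ble z 255) ([] ++ 2 :: [])) (concl F IV 191 0x5b801 (encA ([] ++ 2 :: []) 0)) = true := by decide +kernel

theorem ep1d : band (Rule.ok (2 * 0) EX [] ⟨lapp [] [], [], 0, false⟩) (band (lall (memL L) []) (lall (memL L) [])) = true := by decide +kernel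

theorem cov2 : T.cover 2 [(Nat.shiftLeft 1 0)] = true := by decide +kernel

theorem tl2 : Nat.beq (T.let 2).tt 0 = true := by decide +kernel

theorem ep2a : T.treePath [] (Nat.shiftLeft 1 0) 1 = true := by decide +kernel

theorem ep2b : T.treePath [] (Nat.shiftLeft 1 0) 1 = true := by decide +kernel

theorem ep2c : band (lall (fun z => Nat.ble z 255) ([] ++ 3 :: [])) (concl F IV 191 0x5f001 (encA ([] ++ 3 :: []) 0)) = true := by decide +kernel

theorem ep2d : band (Rule.ok (2 * 0) EX [] ⟨lapp [] [], [], 0, false⟩) (band (lall (memL L) []) (lall (memL L) [])) = true := by decide +kernel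

theorem cov3 : T.cover 3 [(Nat.shiftLeft 1 0)] = true := by decide +kernel

theorem tl3 : Nat.beq (T.let 3).tt 0 = true := by decide +kernel

theorem rot4_1 : T.rot 4 [2, 3, 1] (sel (ones 1) ip4 1) = true := by decide +kernel

theorem rot4_1r : band (Rule.ok (2 * 0) EX RL ⟨4 :: [2, 3, 1], [], 29, true⟩) (lall (memL L) [2, 3, 1]) = true := by decide +kernel

theorem cov4 : T.cover 4 [(sel (ones 1) ip4 1)] = true := by decide +kernel

theorem tl4 : Nat.beq (T.let 4).tt 0 = true := by decide +kernel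

theorem rot5_1 : T.rot 5 [1] (sel (ones 1) ip5 1) = true := by decide +kernel

theorem rot5_1r : band (Rule.ok (2 * 0) EX RL ⟨5 :: [1], [], 30, false⟩) (lall (memL L) [1]) = true := by decide +kernel

theorem cov5 : T.cover 5 [(sel (ones 1) ip5 1)] = true := by decide +kernel

theorem tl5 : Nat.beq (T.let 5).tt 0 = true := by decide +kernel

theorem rot6_1 : T.rot 6 [2] (sel (ones 1) ip6 1) = true := by decide +kernel

theorem rot6_1r : band (Rule.ok (2 * 0) EX RL ⟨6 :: [2], [], 30, false⟩) (lall (memL L) [2]) = true := by decide +kernel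

theorem cov6 : T.cover 6 [(sel (ones 1) ip6 1)] = true := by decide +kernel

theorem tl6 : Nat.beq (T.let 6).tt 0 = true := by decide +kernel

theorem rot7_1 : T.rot 7 [3] (sel (ones 1) ip7 1) = true := by decide +kernel

theorem rot7_1r : band (Rule.ok (2 * 0) EX RL ⟨7 :: [3], [], 30, false⟩) (lall (memL L) [3]) = true := by decide +kernel

theorem cov7 : T.cover 7 [(sel (ones 1) ip7 1)] = true := by decide +kernel

theorem tl7 : Nat.beq (T.let 7).tt 0 = true := by decide +kernel

theorem rot8_1 : T.rot 8 [5, 7, 6] (sel (ones 1) ip8 1) = true := by decide +kernel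

theorem rot8_1r : band (Rule.ok (2 * 0) EX RL ⟨8 :: [5, 7, 6], [7], 29, false⟩) (lall (memL L) [5, 7, 6]) = true := by decide +kernel

theorem cov8 : T.cover 8 [(sel (ones 1) ip8 1)] = true := by decide +kernel

theorem tl8 : Nat.beq (T.let 8).tt 0 = true := by decide +kernel

end Cfsg.Agent.Spor.LyMcN1
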